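import Groth.Agent.TameLib.Len
import Groth.Agent.NormalLib.KrullAkizuki

/-! # Sums of orders over the maximal ideals of a finite type extension of a one-dimensional domain -/

set_option autoImplicit false

universe u

namespace OrdSumLib

open Classical in
/-- Length over the base of a finite length module, as a sum over the maximal ideals. -/
theorem length_eq_sum (A : Type u) [CommRing A] {B : Type u} [CommRing B] [Algebra A B]
    [Fintype (MaximalSpectrum B)] (N : Type u) [AddCommGroup N] [Module B N] [Module A N]
    [IsScalarTower A B N] (h : IsFiniteLength B N) :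
    Module.length A N = ∑ q : MaximalSpectrum B, Module.length A (B ⧸ q.asIdeal) *
      Module.length (Localization.AtPrime q.asIdeal) (LocalizedModule q.asIdeal.primeCompl N) := by
  rename_i instA instT
  revert instA instT
  induction h with
  | @of_subsingleton M _ _ _ =>
    intro _ _
    rw [Module.length_eq_zero]
    refine (Finset.sum_eq_zero fun q _ => ?_).symm
    haveI : Subsingleton (LocalizedModule q.asIdeal.primeCompl M) := ⟨fun a b => by
      induction a using LocalizedModule.induction_on with
      | h m s =>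
        induction b using LocalizedModule.induction_on with
        | h m' s' => rw [Subsingleton.elim m 0, Subsingleton.elim m' 0, LocalizedModule.zero_mk, LocalizedModule.zero_mk]⟩
    rw [Module.length_eq_zero (M := LocalizedModule q.asIdeal.primeCompl M), mul_zero]
  | @of_simple_quotient M _ _ N hS hN ih =>
    intro _ _
    obtain ⟨I, hI, ⟨e⟩⟩ := isSimpleModule_iff_quot_maximal.1 hS
    let q' : MaximalSpectrum B := ⟨I, hI⟩
    rw [Module.length_eq_add_of_exact (N.subtype.restrictScalars A) (N.mkQ.restrictScalars A)
      (Submodule.subtype_injective _) (Submodule.mkQ_surjective _) (fun x => LinearMap.exact_subtype_mkQ N x),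
      ih, (e.restrictScalars A).length_eq]
    have hsum : ∀ q : MaximalSpectrum B,
        Module.length (Localization.AtPrime q.asIdeal) (LocalizedModule q.asIdeal.primeCompl M) =
          Module.length (Localization.AtPrime q.asIdeal) (LocalizedModule q.asIdeal.primeCompl N) +
            (if q' = q then 1 else 0) := fun q => by
      rw [← TameLib.localized_max_length q q']
      exact Module.length_eq_add_of_exact (LocalizedModule.map q.asIdeal.primeCompl N.subtype)
        (LocalizedModule.map q.asIdeal.primeCompl (e.toLinearMap ∘ₗ N.mkQ))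
        (LocalizedModule.map_injective _ _ (Submodule.subtype_injective _))
        (LocalizedModule.map_surjective _ _ (e.surjective.comp (Submodule.mkQ_surjective _)))
        (LocalizedModule.map_exact _ _ _ (LinearMap.exact_iff.mpr (by
          rw [LinearEquiv.ker_comp, Submodule.ker_mkQ, Submodule.range_subtype])))
    simp only [hsum, mul_add, Finset.sum_add_distrib, mul_ite, mul_one, mul_zero, Finset.sum_ite_eq,
      Finset.mem_univ, if_true]
    rfl

variable {A : Type u} [CommRing A] [IsDomain A] [IsNoetherianRing A] [Ring.KrullDimLE 1 A]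

theorem length_ne_top_of_killed {T : Type u} [AddCommGroup T] [Module A T] [Module.Finite A T] {a : A} (ha : a ≠ 0)
    (hT : ∀ t : T, a • t = 0) : Module.length A T ≠ ⊤ := by
  obtain ⟨s, f, hf⟩ := Module.Finite.exists_fin' A T
  have h1 : Module.length A (A ⧸ Ideal.span {a}) ≠ ⊤ :=
    NormalLib.length_quotient_ne_top (by simpa [Ideal.span_singleton_eq_bot] using ha)
  let π : (Fin s → A) →ₗ[A] (Fin s → A ⧸ Ideal.span {a}) := LinearMap.pi fun i => (Submodule.mkQ _) ∘ₗ LinearMap.proj i
  have hπ : Function.Surjective π := fun y => by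
    choose l hl using fun i => Submodule.Quotient.mk_surjective _ (y i)
    exact ⟨l, funext hl⟩
  have hk : LinearMap.ker π ≤ LinearMap.ker f := fun v hv => by
    have h : ∀ i, ∃ c, c * a = v i := fun i => Ideal.mem_span_singleton'.1
      ((Submodule.Quotient.mk_eq_zero _).1 (congrFun (LinearMap.mem_ker.1 hv) i))
    choose c hc using h
    have : v = a • c := funext fun i => by rw [Pi.smul_apply, smul_eq_mul, mul_comm, hc]
    rw [LinearMap.mem_ker, this, map_smul, hT]
  refine ne_top_of_le_ne_top ?_ (Module.length_le_of_surjective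
    (((LinearMap.ker π).liftQ f hk) ∘ₗ (π.quotKerEquivOfSurjective hπ).symm.toLinearMap)
    (fun y => by
      obtain ⟨v, hv⟩ := hf y
      refine ⟨π.quotKerEquivOfSurjective hπ (Submodule.Quotient.mk v), ?_⟩
      rw [LinearMap.comp_apply, LinearEquiv.coe_toLinearMap, LinearEquiv.symm_apply_apply]
      exact hv))
  rw [Module.length_pi]
  exact WithTop.mul_ne_top (by rw [ENat.card_eq_coe_fintype_card]; exact ENat.natCast_ne_top _) h1

/-- `M/xM` has the length of `F/xF` for a full rank free submodule `F` of a finite torsion free module `M`. -/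
theorem length_quot_eq {M : Type u} [AddCommGroup M] [Module A M] [Module.Finite A M] {x : A} (hx : x ≠ 0)
    (hxM : Function.Injective fun m : M => x • m) {n : ℕ} (ι : (Fin n → A) →ₗ[A] M) (hι : Function.Injective ι)
    {a : A} (ha : a ≠ 0) (hfull : ∀ m : M, a • m ∈ LinearMap.range ι) :
    Module.length A (M ⧸ (Ideal.span {x} • ⊤ : Submodule A M)) = n * Module.length A (A ⧸ Ideal.span {x}) := by
  let xM : M →ₗ[A] M := x • LinearMap.id
  let F := LinearMap.range ι
  let G := F.map xM
  have hGF : G ≤ F := by
    rintro _ ⟨m, hm, rfl⟩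
    exact F.smul_mem x hm
  have htop : (Ideal.span {x} • ⊤ : Submodule A M) = LinearMap.range xM := by
    ext m
    rw [Submodule.ideal_span_singleton_smul]
    constructor
    · intro h
      obtain ⟨y, -, hy⟩ := (Submodule.mem_smul_pointwise_iff_exists _ _ _).1 h
      exact ⟨y, hy⟩
    · rintro ⟨y, rfl⟩
      exact (Submodule.mem_smul_pointwise_iff_exists _ _ _).2 ⟨y, trivial, rfl⟩
  have hGx : G ≤ (Ideal.span {x} • ⊤ : Submodule A M) := htop ▸ LinearMap.map_le_range
  let f2 : (M ⧸ F) →ₗ[A] M ⧸ G := Submodule.mapQ F G xM fun y hy => ⟨y, hy, rfl⟩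
  have hf2 : Function.Injective f2 := by
    rw [injective_iff_map_eq_zero]
    intro y hy
    obtain ⟨y, rfl⟩ := Submodule.Quotient.mk_surjective _ y
    rw [Submodule.mapQ_apply, Submodule.Quotient.mk_eq_zero] at hy
    obtain ⟨z, hz, hzy⟩ := hy
    have h' : z = y := hxM hzy
    exact (Submodule.Quotient.mk_eq_zero _).2 (h' ▸ hz)
  have e2 := Module.length_eq_add_of_exact f2 (Submodule.factor hGx) hf2 (Submodule.factor_surjective _) (by
    intro y
    obtain ⟨y, rfl⟩ := Submodule.Quotient.mk_surjective _ y
    show (Submodule.Quotient.mk y : M ⧸ (Ideal.span {x} • ⊤ : Submodule A M)) = 0 ↔ _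
    rw [Submodule.Quotient.mk_eq_zero, htop]
    constructor
    · rintro ⟨w, rfl⟩
      exact ⟨Submodule.Quotient.mk w, rfl⟩
    · rintro ⟨w, hw⟩
      obtain ⟨w, rfl⟩ := Submodule.Quotient.mk_surjective _ w
      rw [Submodule.mapQ_apply, Submodule.Quotient.eq] at hw
      obtain ⟨z, -, hz⟩ := hw
      exact ⟨w - z, by rw [map_sub, hz]; abel⟩)
  let π : (Fin n → A) →ₗ[A] (Fin n → A ⧸ Ideal.span {x}) := LinearMap.pi fun i => (Submodule.mkQ _) ∘ₗ LinearMap.proj i
  have hπ : Function.Surjective π := fun y => by
    choose l hl using fun i => Submodule.Quotient.mk_surjective _ (y i)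
    exact ⟨l, funext hl⟩
  have hkerf : LinearMap.ker (G.mkQ ∘ₗ ι) = LinearMap.ker π := by
    ext v
    rw [LinearMap.mem_ker, LinearMap.comp_apply, Submodule.mkQ_apply, Submodule.Quotient.mk_eq_zero, LinearMap.mem_ker]
    constructor
    · rintro ⟨_, ⟨w, rfl⟩, hw⟩
      have : x • w = v := hι (by rw [map_smul]; exact hw)
      subst this
      exact funext fun i => (Submodule.Quotient.mk_eq_zero _).2 (Ideal.mul_mem_right _ _ (Ideal.mem_span_singleton_self x))
    · intro h
      choose c hc using fun i => Ideal.mem_span_singleton'.1 ((Submodule.Quotient.mk_eq_zero _).1 (congrFun h i))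
      exact ⟨ι c, ⟨c, rfl⟩, by
        show x • ι c = ι v
        rw [← map_smul]
        exact congrArg ι (funext fun i => by (rw [Pi.smul_apply, smul_eq_mul, mul_comm]; exact hc i))⟩
  let f1 : (Fin n → A ⧸ Ideal.span {x}) →ₗ[A] M ⧸ G :=
    ((LinearMap.ker π).liftQ (G.mkQ ∘ₗ ι) hkerf.ge) ∘ₗ (π.quotKerEquivOfSurjective hπ).symm.toLinearMap
  have hf1 : Function.Injective f1 := by
    have h0 : Function.Injective ((LinearMap.ker π).liftQ (G.mkQ ∘ₗ ι) hkerf.ge) := by
     rw [← LinearMap.ker_eq_bot, Submodule.ker_liftQ, hkerf, Submodule.mkQ_map_self]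
    exact h0.comp (π.quotKerEquivOfSurjective hπ).symm.injective
  have hr1 : LinearMap.range f1 = LinearMap.range (G.mkQ ∘ₗ ι) := by
    rw [LinearMap.range_comp_of_range_eq_top _ (LinearEquiv.range _), Submodule.range_liftQ]
  have e1 := Module.length_eq_add_of_exact f1 (Submodule.factor hGF) hf1 (Submodule.factor_surjective _) (by
    rw [LinearMap.exact_iff, hr1]
    ext y
    obtain ⟨y, rfl⟩ := Submodule.Quotient.mk_surjective _ y
    rw [LinearMap.mem_ker, show Submodule.factor hGF (Submodule.Quotient.mk y) = Submodule.Quotient.mk y from rfl, Submodule.Quotient.mk_eq_zero, LinearMap.mem_range]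
    constructor
    · rintro ⟨w, rfl⟩
      exact ⟨w, rfl⟩
    · rintro ⟨w, hw⟩
      have := (Submodule.Quotient.eq G).1 hw
      have h2 := F.sub_mem ⟨w, rfl⟩ (hGF this)
      rw [sub_sub_cancel] at h2
      exact h2)
  have hT : Module.length A (M ⧸ F) ≠ ⊤ := length_ne_top_of_killed ha fun t => by
    obtain ⟨t, rfl⟩ := Submodule.Quotient.mk_surjective _ t
    rw [← Submodule.Quotient.mk_smul, Submodule.Quotient.mk_eq_zero]
    exact hfull t
  rw [e2, add_comm] at e1
  rw [WithTop.add_right_cancel hT e1, Module.length_pi, ENat.card_eq_coe_fintype_card, Fintype.card_fin]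

end OrdSumLib
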